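import Cfsg.Agent.KZ.Ch3B.Tri
import Cfsg.Agent.KZ.Dat.SpD
import Cfsg.Agent.KZ.Dat.OmS

/-!
# KZ, characteristic three : `Tri S` for the symplectic and orthogonal groups (helper34)

`tri_psp`, `tri_odd`, `tri_plus`, `tri_minus`.
-/

set_option autoImplicit false
set_option linter.unusedSectionVars false

namespace Cfsg.Agent.KZ.Ch3B

open Cfsg Cfsg.Agent.DL Cfsg.Agent.DL.PP Cfsg.Agent.KZ.Lie Cfsg.Agent.KZ.Dat Cfsg.Agent.KZ.Ch3 Cfsg.Agent.KZ.ClB Matrix Equiv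
  Cfsg.Agent.KZ.Dat.Om
open Cfsg.Agent.Nodes.TypeC (wt)
open Cfsg.Agent.ODD.C2 (BD)

section Vec

variable {m n : ℕ}

theorem one_comm {A A' : Matrix (Fin m) (Fin m) ℤ} (h : A = A') : 1 * A = A' * 1 := by rw [h, one_mul, mul_one]

theorem smul_one_eq (c : ℤ) (l : Fin m) : c • (1 : Matrix (Fin m) (Fin m) ℤ) = c • spm 1 (Pi.mulSingle l 1) := by
  rw [Pi.mulSingle_one, spm_one]

theorem wt_self (x : Fin m × Bool) : wt x ⬝ᵥ wt x = 1 := by
  obtain ⟨i, _ | _⟩ := x <;> simp [wt]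

theorem wt_pair {x y : Fin m × Bool} (h : x.1 ≠ y.1) : (wt x + wt y) ⬝ᵥ wt x = 1 := by
  rw [add_dotProduct, wt_self, wt, wt, dotProduct_single, Pi.single_eq_of_ne h, zero_mul, add_zero]

theorem root_eq : wt ((0 : Fin (n + 2)), true) + wt (1, false) = v2 n 1 (-1) ᵥ* (1 : Matrix (Fin (n + 2)) (Fin (n + 2)) ℤ) := by
  rw [vecMul_one]
  funext j
  simp only [wt, v2, Pi.add_apply, Pi.single_apply, Fin.ext_iff, Fin.val_zero, Fin.val_one]
  split_ifs <;> simp_all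

theorem cor_short {v : Fin (n + 2) → ℤ} (h : v = wt (0, true)) :
    ((1 : Matrix (Fin (n + 2)) (Fin (n + 2)) ℤ) *ᵥ v) 0 = 1 ∧ ((1 : Matrix (Fin (n + 2)) (Fin (n + 2)) ℤ) *ᵥ v) 1 = 0 := by
  simp [h, wt]

theorem last_ne (hn : 1 ≤ n) : (0 : Fin (n + 2)) ≠ Fin.last _ ∧ (1 : Fin (n + 2)) ≠ Fin.last _ :=
  ⟨Fin.ne_of_val_ne (by simp), Fin.ne_of_val_ne (by simp; omega)⟩

theorem cor_long (hn : 1 ≤ n) {v : Fin (n + 2) → ℤ} (h : v = wt (0, true) + wt (Fin.last _, true)) :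
    ((1 : Matrix (Fin (n + 2)) (Fin (n + 2)) ℤ) *ᵥ v) 0 = 1 ∧ ((1 : Matrix (Fin (n + 2)) (Fin (n + 2)) ℤ) *ᵥ v) 1 = 0 := by
  rw [one_mulVec, h, Pi.add_apply, Pi.add_apply, wt, wt, Pi.single_eq_same, Pi.single_eq_of_ne (last_ne hn).1,
    Pi.single_eq_of_ne (last_ne hn).2, Pi.single_eq_of_ne Fin.zero_ne_one.symm]
  exact ⟨rfl, rfl⟩

end Vec

section Dat

variable {k : Type} [Field k] [Fact (Nat.Prime 3)] [CharP k 3] [IsAlgClosed k] (h2 : (2 : k) ≠ 0)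
  (hk : ∀ a : k, ∃ j, 0 < j ∧ a ^ 3 ^ j = a) {e : ℕ} (he : 0 < e) {m n : ℕ} {S : Type} [Group S]

/-- the Weyl group of type `C` -/
noncomputable def spC : SP (datC m hk he) m False where
  P := (1 : Matrix (Fin m) (Fin m) ℤ)
  P' := (1 : Matrix (Fin m) (Fin m) ℤ)
  PP' := one_mul _
  P'P := one_mul (1 : Matrix (Fin m) (Fin m) ℤ)
  fwd w := let ⟨π, t, h⟩ := WmC_spm hk he w; ⟨π, t, False.elim, one_comm h⟩
  bwd π t _ := (exists_WmC hk he π t).imp fun _ => one_comm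

/-- the Weyl group of type `B` -/
noncomputable def spB : SP (datB m h2 hk he) m False where
  P := (1 : Matrix (Fin m) (Fin m) ℤ)
  P' := (1 : Matrix (Fin m) (Fin m) ℤ)
  PP' := one_mul _
  P'P := one_mul (1 : Matrix (Fin m) (Fin m) ℤ)
  fwd w := let ⟨π, t, h⟩ := WmB_spm h2 hk he w; ⟨π, t, False.elim, one_comm h⟩
  bwd π t _ := (exists_WmB h2 hk he π t).imp fun _ => one_comm

variable {s : Fin (n + 2) × Bool → Fin (n + 2) × Bool} {γ : (Fin (n + 2) → ℤ) → Fin (n + 2) → ℤ}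
  {B : Matrix (Fin (n + 2)) (Fin (n + 2)) ℤ} (sy : (osD n).Sy s γ B)

/-- the Weyl group of type `D` -/
noncomputable def spD : SP (datD sy hk he) (n + 2) True where
  P := (1 : Matrix (Fin (n + 2)) (Fin (n + 2)) ℤ)
  P' := (1 : Matrix (Fin (n + 2)) (Fin (n + 2)) ℤ)
  PP' := one_mul _
  P'P := one_mul (1 : Matrix (Fin (n + 2)) (Fin (n + 2)) ℤ)
  fwd w := let ⟨π, t, h1, h⟩ := WmD_spm sy hk he w; ⟨π, t, fun _ => h1, one_comm h⟩
  bwd π _ h := (exists_WmD sy hk he π (h trivial)).imp fun _ => one_comm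

theorem tri_datC (hA : BoxApi) (t : Sit (datC (n + 2) hk he) (AdmQ 3) S) (h : t.H0 = GF (FC (n + 2) k 3 e) (GC (n + 2) k)) :
    Tri S :=
  tri_sp hA rfl (spC hk he) False.elim t ⟨1, .inl rfl, one_comm (smul_one_eq _ _)⟩
    (fun _ h => h.imp fun _ h => ⟨1, .inl rfl, one_comm (h.trans (smul_one_eq _ _))⟩)
    ((exists_rtC hk he (.inl Fin.zero_ne_one)).imp fun _ h => h.2.trans root_eq)
    ((exists_rtC hk he (x := (0, true)) (.inr rfl)).imp fun _ h =>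
      ⟨h.1, cor_short ((corC hk he h.1 (.inr rfl) h.2).trans (if_pos rfl))⟩) (.inl h)

theorem tri_datB (hA : BoxApi) (hn : 1 ≤ n) (t : Sit (datB (n + 2) h2 hk he) (AdmQ 3) S) : Tri S :=
  tri_sp hA rfl (spB h2 hk he) False.elim t ⟨1, .inl rfl, one_comm (smul_one_eq _ _)⟩
    (fun _ h => h.imp fun _ h => ⟨1, .inl rfl, one_comm (h.trans (smul_one_eq _ _))⟩)
    ((exists_rtB h2 hk he (x := (0, true)) (y := (1, false)) Fin.zero_ne_one).imp fun _ h => h.2.trans root_eq)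
    ((exists_rtB h2 hk he (x := (0, true)) (y := (Fin.last _, true)) (last_ne hn).1).imp fun _ h =>
      ⟨h.1, cor_long hn (corB h2 hk he (x := (0, true)) (y := (Fin.last _, true)) (last_ne hn).1 h.2)⟩)
    (.inr fun _ h => ((rtB_iff h2 hk he).1 h).elim (fun ⟨x, _, h1, h⟩ => ⟨wt x, h ▸ wt_pair h1⟩)
      fun ⟨x, h⟩ => ⟨wt x, h ▸ wt_self x⟩)

theorem tri_datD (hA : BoxApi) (hn : 1 ≤ n) {η : ℤˣ} (hB : B = spm 1 (Pi.mulSingle (Fin.last _) η))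
    (t : Sit (datD sy hk he) (AdmD 3 n) S) : Tri S :=
  tri_sp hA rfl (spD hk he sy) (fun _ => hn) t ⟨η, .inr trivial, one_comm ((datD_Mx sy hk he).trans (congrArg _ hB))⟩
    (fun _ h => h.imp fun _ h => h.elim (fun h => ⟨1, .inr trivial, one_comm (h.trans (smul_one_eq _ _))⟩)
      fun h => ⟨-1, .inr trivial, one_comm (h.trans (congrArg _ (BD_eq n)))⟩)
    ((exists_rtD sy hk he (x := (0, true)) (y := (1, false)) Fin.zero_ne_one).imp fun _ h => h.2.trans root_eq)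
    ((exists_rtD sy hk he (x := (0, true)) (y := (Fin.last _, true)) (last_ne hn).1).imp fun _ h =>
      ⟨h.1, cor_long hn ((corD sy hk he h.1).trans h.2)⟩)
    (.inr fun _ h => let ⟨x, _, h1, h⟩ := (rtD_iff sy hk he).1 h; ⟨wt x, h ▸ wt_pair h1⟩)

end Dat

variable (hA : BoxApi) (F : Type) [Field F] [Fintype F] [CharP F 3] {m : ℕ}
include hA

theorem tri_psp (hm : 2 ≤ m) : Tri (PSp m F) := by
  have : Fact (Nat.Prime 3) := ⟨Nat.prime_three⟩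
  obtain ⟨n, rfl⟩ : ∃ n, m = n + 2 := ⟨m - 2, by omega⟩
  obtain ⟨k, _, _, _, hk, e, he, f, hF⟩ := hasC 3 F
  exact tri_datC hk he hA _ (sitC_H0 f hk he hF (S2693.result hm fun _ => by decide))

theorem tri_odd (hm : 3 ≤ m) : Tri (POmega F (quadFormOdd m F)) := by
  have : Fact (Nat.Prime 3) := ⟨Nat.prime_three⟩
  obtain ⟨n, rfl⟩ : ∃ n, m = n + 2 := ⟨m - 2, by omega⟩
  obtain ⟨k, _, _, _, hk, e, he, f, hF⟩ := hasC 3 F
  have ho : Odd (Fintype.card F) := hF ▸ Odd.pow (by decide)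
  obtain ⟨t, -⟩ := sitB f hF hk he (two_ne hF ho he) ho hm
  exact tri_datB _ hk he hA (by omega) t

theorem tri_plus (hm : 5 ≤ m) : Tri (POmega F (quadFormPlus m F)) := by
  have : Fact (Nat.Prime 3) := ⟨Nat.prime_three⟩
  obtain ⟨n, rfl⟩ : ∃ n, m = n + 2 := ⟨m - 2, by omega⟩
  obtain ⟨k, _, _, _, hk, e, he, f, hF⟩ := hasC 3 F
  obtain ⟨t, -⟩ := sitP f hF hk he (n := n) (by omega)
  exact tri_datD hk he _ hA (by omega) (η := 1) (by rw [Pi.mulSingle_one, spm_one]) t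

theorem tri_minus (hm : 4 ≤ m) {a b : F} (hab : ∀ z₁ z₂ : F, z₁ ^ 2 + a * z₁ * z₂ + b * z₂ ^ 2 = 0 → z₁ = 0 ∧ z₂ = 0) :
    Tri (POmega F (quadFormMinus (m - 1) F a b)) := by
  have : Fact (Nat.Prime 3) := ⟨Nat.prime_three⟩
  obtain ⟨n, rfl⟩ : ∃ n, m = n + 2 := ⟨m - 2, by omega⟩
  obtain ⟨k, _, _, _, hk, e, he, f, hF⟩ := hasC 3 F
  obtain ⟨t, -⟩ := sitM f hF hk he (n := n) (by omega) hab
  exact tri_datD hk he _ hA (by omega) (BD_eq n) t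

end Cfsg.Agent.KZ.Ch3B
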