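import Cfsg.Agent.KZ.Ch3.Tru
import Cfsg.Agent.KZ.ClB.SP

/-!
# KZ, characteristic three : labels for Weyl groups of signed permutations (helper34)

`lab_of` (a label with a generator `w₀` of its Frobenius twist), `lab_co` (in coordinates), `tri_sp`.
-/

set_option autoImplicit false
set_option linter.unusedSectionVars false

namespace Cfsg.Agent.KZ.Ch3B

open Cfsg Cfsg.Agent.DL Cfsg.Agent.DL.PP Cfsg.Agent.KZ.Lie Cfsg.Agent.KZ.Dat Cfsg.Agent.KZ.Ch3 Cfsg.Agent.KZ.ClB Matrix Equiv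

variable {p : ℕ} [Fact p.Prime] {k : Type} [Field k] [CharP k p] {Y : Type} [Group Y] {N : Type} [Fintype N]
  [DecidableEq N] {ρ : Y →* GL N k} {F : MulAut Y} {G : Subgroup Y} [IsAlgClosed k] {D : Datum p ρ F G}
  {Adm : Matrix D.R D.R ℤ → Prop} {S : Type} [Group S]

theorem chr_coch' {R : Type} [Fintype R] (x y : R → ℤ) (ξ : ℂˣ) : chr y (coch x ξ) = ξ ^ (x ⬝ᵥ y) := by
  rw [chr_coch, dotProduct_comm]
  rfl

theorem Wm_pow (w : D.W) (j : ℕ) : D.Wm (w ^ j) = D.Wm w ^ j := map_pow D.WmHom w j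

theorem pow_fix {R : Type} [Fintype R] [DecidableEq R] {A : Matrix R R ℤ} {v : R → ℤ} (h : A *ᵥ v = v) (j : ℕ) :
    A ^ j *ᵥ v = v := by
  induction j with
  | zero => rw [pow_zero, one_mulVec]
  | succ j ih => rw [pow_succ, ← mulVec_mulVec, h, ih]

theorem vec_pow {w : D.W} {x : D.R → ℤ} {q n : ℤ} {γ : D.I → ℤ} (h : q • x ᵥ* D.Wm w = x + n • D.wt γ) (j : ℕ) :
    ∃ γ', q ^ j • x ᵥ* D.Wm (w ^ j) = x + n • D.wt γ' := by
  induction j with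
  | zero => exact ⟨0, by rw [pow_zero, pow_zero, D.Wm_one, vecMul_one, one_smul, map_zero, smul_zero, add_zero]⟩
  | succ j ih =>
    obtain ⟨γ', h'⟩ := ih
    refine ⟨γ + q • D.act w⁻¹ γ', ?_⟩
    rw [pow_succ' q, pow_succ w, D.Wm_mul, ← vecMul_vecMul, mul_smul, ← smul_vecMul (q ^ j), h', add_vecMul, smul_add, h,
      map_add, map_zsmul, D.wt_act', smul_vecMul, smul_add, smul_comm q n, add_assoc]

/-- a label from a generator of its twist -/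
theorem lab_of (f : Fr D) [Fintype ↥(GF F G)] (s : Sit D Adm S) {Δ : Matrix D.R D.R ℤ → Prop} {q : ℤ} (hq : 0 < q) {e : ℕ}
    {B : Matrix D.R D.R ℤ} (hB : Δ B) (hM : D.Mx = q ^ e • B) (adm : ∀ A, Adm A → ∃ (j : ℕ) (B' : _), Δ B' ∧ A = q ^ j • B')
    (hΔ : ∀ A A', Δ A → Δ A' → Commute A A') {w : D.W} {x lam : D.R → ℤ} {ξ : ℂˣ} {n : ℕ} {γ : D.I → ℤ} (hξ : ξ ^ n = 1)
    (h1 : ∀ A, Δ A → Commute A (D.Wm w) ∧ x ᵥ* A = x) (h2 : B *ᵥ lam = lam) (h3 : D.Wm w *ᵥ lam = lam)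
    (h4 : q • x ᵥ* D.Wm w = x + (n : ℤ) • D.wt γ)
    (h5 : ∀ u, D.Wm u *ᵥ lam = lam → Rel D u (coch x ξ) (coch x ξ) → u = 1) :
    ∃ w', GP D w' (coch x ξ) ∧ s.Zw f w' (coch x ξ) ∧ Stb D Adm w' (coch x ξ) := by
  have c1 : ∀ A j, Δ A → Commute A (D.Wm (w ^ j)) := fun A j h => Wm_pow w j ▸ (h1 A h).1.pow_right j
  have c2 : ∀ A j, Δ A → ∃ γ', x ᵥ* (q ^ j • A * D.Wm (w ^ j)) = x + (n : ℤ) • D.wt γ' := fun A j h =>
    (vec_pow h4 j).imp fun γ' h' => by rw [smul_mul_assoc, vecMul_smul, ← vecMul_vecMul, (h1 A h).2, h']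
  obtain ⟨γ', h6⟩ := c2 B e hB
  rw [← hM, hM, smul_mul_assoc, (c1 B e hB).eq, ← mul_smul_comm, ← hM] at h6
  obtain ⟨h7, h8⟩ := zw_of_root (s := s) (f := f) hξ h6
  refine ⟨w ^ e, ⟨h7, lam, q ^ e, pow_pos hq e, ?_, h5⟩, h8, fun A hA => ?_⟩
  · rw [← mulVec_mulVec, hM, smul_mulVec, h2, mulVec_smul, Wm_pow]
    exact congrArg _ (pow_fix h3 e)
  · obtain ⟨j, A', h9, rfl⟩ := adm A hA
    obtain ⟨γ'', h10⟩ := c2 A' j h9
    refine ⟨w ^ j, Commute.eq ?_, fun y => ?_⟩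
    · rw [hM]
      exact Commute.mul_left (((c1 A' e h9).mul_right ((hΔ _ _ h9 hB).smul_right _)).smul_left _)
        (Commute.mul_right (Wm_pow w j ▸ Wm_pow w e ▸ Commute.pow_pow_self _ _ _) ((c1 B j hB).symm.smul_right _))
    · rw [chr_coch', chr_coch', dotProduct_mulVec, h10, add_dotProduct, smul_dotProduct, smul_eq_mul, _root_.zpow_add,
        _root_.zpow_mul, zpow_natCast, hξ, _root_.one_zpow, mul_one]

variable {m : ℕ} {ev : Prop} (P : SP D m ev) (l : Fin m)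

/-- a power of `3` times a sign at the coordinate `l` -/
def Sn (j : ℕ) (A : Matrix D.R D.R ℤ) : Prop :=
  ∃ θ : ℤˣ, (θ = 1 ∨ ev) ∧ P.P * A = (3 : ℤ) ^ j • spm 1 (Pi.mulSingle l θ) * P.P

variable {P l}

theorem Sn.exists {j : ℕ} {A : Matrix D.R D.R ℤ} (h : Sn P l j A) : ∃ B, Sn P l 0 B ∧ A = (3 : ℤ) ^ j • B := by
  obtain ⟨θ, h1, h2⟩ := h
  have h3 : P.P * (P.P' * (spm 1 (Pi.mulSingle l θ) * P.P)) = spm 1 (Pi.mulSingle l θ) * P.P := by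
    rw [← Matrix.mul_assoc, P.PP', Matrix.one_mul]
  exact ⟨_, ⟨θ, h1, by rw [h3, pow_zero, one_smul]⟩, P.cancel_left (by rw [h2, Matrix.mul_smul, h3, Matrix.smul_mul])⟩

theorem comm_of {A B : Matrix D.R D.R ℤ} {X X' : Matrix (Fin m) (Fin m) ℤ} (h1 : P.P * A = X * P.P) (h2 : P.P * B = X' * P.P)
    (h : X * X' = X' * X) : Commute A B := P.cancel_left (by
  rw [← Matrix.mul_assoc, h1, Matrix.mul_assoc, h2, ← Matrix.mul_assoc, h, ← Matrix.mul_assoc, h2, Matrix.mul_assoc X' P.P, h1,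
    Matrix.mul_assoc])

theorem sgn_mul {θ : ℤˣ} (hθ : θ = 1 ∨ ev) {x : Fin m → ℤ} (hx : ev → x l = 0) (j : Fin m) :
    ((Pi.mulSingle l θ : Fin m → ℤˣ) j : ℤ) * x j = x j := by
  rw [Pi.mulSingle_apply]
  split_ifs with h
  · rcases hθ with rfl | h1
    · exact one_mul _
    · rw [h, hx h1, mul_zero]
  · exact one_mul _

/-- a label in coordinates -/
theorem lab_co (f : Fr D) [Fintype ↥(GF F G)] (s : Sit D Adm S) {e : ℕ} (hM : Sn P l e D.Mx)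
    (adm : ∀ A, Adm A → ∃ j, Sn P l j A) {r : Fin m → ℤ} (hr : ∃ γ, D.wt γ = r ᵥ* P.P) {π : Perm (Fin m)} {t : Fin m → ℤˣ}
    {x lam : Fin m → ℤ} {ξ : ℂˣ} {n : ℕ} {g : ℤ} (hξ : IsPrimitiveRoot ξ n) (h1 : ev → ∏ j, t j = 1)
    (h2 : ev → π l = l ∧ x l = 0 ∧ lam l = 0) (h3 : ∀ j, lam (π j) = t j * lam j)
    (h4 : ∀ j, 3 * (x (π j) * t j) = x j + n * (g * r j))
    (h5 : ∀ (j j' : Fin m) (σ : ℤˣ), lam j' = σ * lam j → (n : ℤ) ∣ x j' * σ - x j → j' = j ∧ (σ = 1 ∨ ev ∧ j = l)) :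
    ∃ w, GP D w (coch (x ᵥ* P.P) ξ) ∧ s.Zw f w (coch (x ᵥ* P.P) ξ) ∧ Stb D Adm w (coch (x ᵥ* P.P) ξ) := by
  obtain ⟨B, hB, hM⟩ := hM.exists
  obtain ⟨γ, hr⟩ := hr
  obtain ⟨w, rfl, rfl⟩ := P.exists_w π h1
  refine lab_of f s (Δ := Sn P l 0) (w := w) (lam := P.P' *ᵥ lam) (γ := g • γ) three_pos hB hM
    (fun A hA => (adm A hA).imp fun _ h => h.exists) ?_ hξ.pow_eq_one ?_ ?_ ?_ ?_ fun u h6 h7 => ?_
  · rintro A A' ⟨θ, -, h⟩ ⟨θ', -, h'⟩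
    refine comm_of h h' ?_
    rw [pow_zero, one_smul, one_smul, spm_mul, spm_mul]
    exact congrArg _ (funext fun j => mul_comm _ _)
  · rintro A ⟨θ, hθ, h⟩
    rw [pow_zero, one_smul] at h
    refine ⟨comm_of h (P.eq w) ?_, ?_⟩
    · rw [spm_mul, spm_mul, mul_one, one_mul]
      refine congrArg _ (funext fun j => (mul_comm _ _).trans (congrArg _ ?_))
      rcases hθ with rfl | hθ
      · rw [Pi.mulSingle_one]
        rfl
      · rw [Pi.mulSingle_apply, Pi.mulSingle_apply]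
        exact if_congr (by rw [← (P.π w).injective.eq_iff (a := j), (h2 hθ).1]) rfl rfl
    · rw [vecMul_vecMul, h, ← vecMul_vecMul]
      exact congrArg (· ᵥ* P.P) (funext fun j => (vecMul_spm _ _ _ j).trans
        ((mul_comm _ _).trans (sgn_mul hθ (fun h => (h2 h).2.1) j)))
  · obtain ⟨θ, hθ, h⟩ := hB
    refine P.P_inj ?_
    rw [mulVec_mulVec, h, pow_zero, one_smul, ← mulVec_mulVec, P.P_P']
    exact funext fun j => (spm_mulVec 1 _ lam j).trans (sgn_mul hθ (fun h => (h2 h).2.2) j)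
  · refine P.P_inj (funext fun j => ?_)
    obtain ⟨j, rfl⟩ := (P.π w).surjective j
    rw [P.P_Wm, P.P_P', spm_mulVec, h3]
  · rw [P.vecMul_Wm, map_zsmul, hr, ← smul_vecMul, ← smul_vecMul, ← smul_vecMul, ← add_vecMul]
    exact congrArg (· ᵥ* P.P) (funext h4)
  · have h8 : ∀ j, P.π u j = j ∧ (P.s u j = 1 ∨ ev ∧ j = l) := fun j => by
      refine h5 j _ _ ?_ ((hξ.zpow_eq_one_iff_dvd _).1 ?_)
      · have h9 := congrFun (congrArg (P.P *ᵥ ·) h6) (P.π u j)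
        rwa [P.P_Wm, P.P_P', spm_mulVec, eq_comm] at h9
      · have h9 := P.co_rel h7 j
        rw [show coch (x ᵥ* P.P) ξ = Cl.cx D (x ᵥ* P.P) ξ from rfl, P.co_cx, P.co_cx, ← _root_.zpow_mul] at h9
        rw [_root_.zpow_sub, h9, mul_inv_cancel]
    refine P.ext (fun j => by rw [(h8 j).1, map_one]; rfl) fun j => ?_
    rw [P.s_one]
    refine (h8 j).2.elim id fun ⟨h9, h10⟩ => ?_
    rw [← P.even h9 u, Finset.prod_eq_single j (fun b _ hb => (h8 b).2.resolve_right fun h => hb (h.2.trans h10.symm))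
      (by simp)]

end Cfsg.Agent.KZ.Ch3B
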