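import Cfsg.Agent.KZ.Ch3B.Lab

/-!
# KZ, characteristic three : `Tri S` for Weyl groups of signed permutations (helper34)
-/

set_option autoImplicit false
set_option linter.unusedSectionVars false

namespace Cfsg.Agent.KZ.Ch3B

open Cfsg Cfsg.Agent.DL Cfsg.Agent.DL.PP Cfsg.Agent.KZ.Lie Cfsg.Agent.KZ.Dat Cfsg.Agent.KZ.Ch3 Cfsg.Agent.KZ.ClB Matrix Equiv

section Vec

variable {n : ℕ} {ev : Prop} [Decidable ev]

/-- the vector `(a, b, 0, …)` -/
def v2 (n : ℕ) (a b : ℤ) (j : Fin (n + 2)) : ℤ := if (j : ℕ) = 0 then a else if (j : ℕ) = 1 then b else 0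

variable (ev) in
/-- the vector `(a, b, 3, 4, …)`, with last coordinate `0` if `ev` -/
def zz (n : ℕ) (a b : ℤ) (j : Fin (n + 2)) : ℤ :=
  if (j : ℕ) = 0 then a else if (j : ℕ) = 1 then b else if ev ∧ (j : ℕ) = n + 1 then 0 else j + 1

variable (ev) in
/-- the signs of the element of order four -/
def tt (n : ℕ) (j : Fin (n + 2)) : ℤˣ := if (j : ℕ) = 1 then -1 else if ev ∧ (j : ℕ) = n + 1 then -1 else 1

theorem v2_dot (a b : ℤ) (y : Fin (n + 2) → ℤ) : v2 n a b ⬝ᵥ y = a * y 0 + b * y 1 := by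
  simp [dotProduct, Fin.sum_univ_succ, v2]

theorem swap_val (j : Fin (n + 2)) :
    ((swap 0 1 j : Fin (n + 2)) : ℕ) = if (j : ℕ) = 0 then 1 else if (j : ℕ) = 1 then 0 else j := by
  simp only [swap_apply_def, Fin.ext_iff, Fin.val_zero, Fin.val_one, apply_ite Fin.val]

theorem prod_tt (h : ev → 1 ≤ n) (he : ev) : ∏ j, tt ev n j = 1 := by
  have := h he
  rw [Fintype.prod_eq_mul 1 (Fin.last _) (Fin.ne_of_val_ne (by simp; omega)) fun c hc => by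
    rw [tt, if_neg fun e : (c : ℕ) = 1 => hc.1 (Fin.ext e), if_neg fun e : ev ∧ (c : ℕ) = n + 1 => hc.2 (Fin.ext e.2)]]
  simp [tt, he]

theorem at_last (h : ev → 1 ≤ n) (he : ev) (a b c d : ℤ) : swap 0 1 (Fin.last (n + 1)) = Fin.last (n + 1) ∧
    v2 n a b (Fin.last _) = 0 ∧ zz ev n c d (Fin.last _) = 0 := by
  have := h he
  have h1 : n ≠ 0 := by omega
  simp [Fin.ext_iff, swap_val, v2, zz, he, h1]

theorem sepC (j j' : Fin (n + 2)) (σ : ℤˣ) (h1 : zz ev n 1 2 j' = σ * zz ev n 1 2 j) :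
    j' = j ∧ (σ = 1 ∨ ev ∧ j = Fin.last _) := by
  simp only [zz, Fin.ext_iff, Fin.val_last] at h1 ⊢
  rcases Int.units_eq_one_or σ with rfl | rfl <;> by_cases he : ev <;>
    simp only [he, true_and, false_and, if_false, Units.val_one, Units.val_neg, (by decide : ¬ (-1 : ℤˣ) = 1), true_or,
      false_or, and_true, and_false] at h1 ⊢ <;> split_ifs at h1 <;> omega

theorem sepB (j j' : Fin (n + 2)) (σ : ℤˣ) (h1 : zz ev n 1 1 j' = σ * zz ev n 1 1 j)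
    (h2 : ((4 : ℕ) : ℤ) ∣ v2 n 1 (-1) j' * σ - v2 n 1 (-1) j) : j' = j ∧ (σ = 1 ∨ ev ∧ j = Fin.last _) := by
  simp only [zz, v2, Fin.ext_iff, Fin.val_last] at h1 h2 ⊢
  rcases Int.units_eq_one_or σ with rfl | rfl <;> by_cases he : ev <;>
    simp only [he, true_and, false_and, if_false, Units.val_one, Units.val_neg, (by decide : ¬ (-1 : ℤˣ) = 1), true_or,
      false_or, and_true, and_false] at h1 h2 ⊢ <;> split_ifs at h1 h2 <;> omega

theorem sepA (j j' : Fin (n + 2)) (σ : ℤˣ) (h1 : zz ev n 0 0 j' = σ * zz ev n 0 0 j)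
    (h2 : ((5 : ℕ) : ℤ) ∣ v2 n 2 4 j' * σ - v2 n 2 4 j) : j' = j ∧ (σ = 1 ∨ ev ∧ j = Fin.last _) := by
  simp only [zz, v2, Fin.ext_iff, Fin.val_last] at h1 h2 ⊢
  rcases Int.units_eq_one_or σ with rfl | rfl <;> by_cases he : ev <;>
    simp only [he, true_and, false_and, if_false, Units.val_one, Units.val_neg, (by decide : ¬ (-1 : ℤˣ) = 1), true_or,
      false_or, and_true, and_false] at h1 h2 ⊢ <;> split_ifs at h1 h2 <;> omega

theorem eqC (j : Fin (n + 2)) : 3 * (v2 n 1 (-1) j * (1 : ℤˣ)) = v2 n 1 (-1) j + (2 : ℕ) * (1 * v2 n 1 (-1) j) := by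
  push_cast
  ring

theorem fixB (j : Fin (n + 2)) : zz ev n 1 1 (swap 0 1 j) = (1 : ℤˣ) * zz ev n 1 1 j := by
  simp only [zz, swap_val, Units.val_one]
  split_ifs <;> first | omega | simp_all

theorem eqB (j : Fin (n + 2)) :
    3 * (v2 n 1 (-1) (swap 0 1 j) * (1 : ℤˣ)) = v2 n 1 (-1) j + (4 : ℕ) * (-1 * v2 n 1 (-1) j) := by
  simp only [v2, swap_val, Units.val_one]
  split_ifs <;> first | omega | simp_all

theorem fixA (j : Fin (n + 2)) : zz ev n 0 0 (swap 0 1 j) = tt ev n j * zz ev n 0 0 j := by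
  simp only [zz, tt, swap_val]
  split_ifs <;> first | omega | simp_all

theorem eqA (j : Fin (n + 2)) : 3 * (v2 n 2 4 (swap 0 1 j) * tt ev n j) = v2 n 2 4 j + (5 : ℕ) * (2 * v2 n 1 (-1) j) := by
  simp only [v2, tt, swap_val]
  split_ifs <;> first | omega | simp_all

end Vec

theorem exists_root (n : ℕ) (hn : n ≠ 0) : ∃ ξ : ℂˣ, IsPrimitiveRoot ξ n :=
  ⟨_, (Complex.isPrimitiveRoot_exp n hn).isUnit_unit hn⟩

variable {p : ℕ} [Fact p.Prime] {k : Type} [Field k] [CharP k p] {Y : Type} [Group Y] {N : Type} [Fintype N]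
  [DecidableEq N] {ρ : Y →* GL N k} {F : MulAut Y} {G : Subgroup Y} [IsAlgClosed k] {D : Datum p ρ F G}
  {Adm : Matrix D.R D.R ℤ → Prop} {S : Type} [Group S]

theorem ro_coch {ξ : ℂˣ} {n : ℕ} (h : ξ ^ n = 1) (x : D.R → ℤ) : RO D (coch x ξ) n := fun a _ => by
  rw [chr_coch', ← zpow_natCast, ← _root_.zpow_mul, mul_comm, _root_.zpow_mul, zpow_natCast, h, _root_.one_zpow]

/-- **`Tri S` for a Weyl group of signed permutations** -/
theorem tri_sp (hA : BoxApi) (hp : p = 3) {n : ℕ} {ev : Prop} (P : SP D (n + 2) ev) (hn : ev → 1 ≤ n) (s : Sit D Adm S) {e : ℕ}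
    (hM : Sn P (Fin.last _) e D.Mx) (adm : ∀ A, Adm A → ∃ j, Sn P (Fin.last _) j A)
    (hr : ∃ γ, D.wt γ = v2 n 1 (-1) ᵥ* P.P) (hc : ∃ a, D.Rt a ∧ (P.P *ᵥ D.cor a) 0 = 1 ∧ (P.P *ᵥ D.cor a) 1 = 0)
    (hT : s.H0 = GF F G ∨ ∀ a, D.Rt a → ∃ x, D.wt a ⬝ᵥ x = 1) : Tri S := by
  classical
  have := Asm.finite_GF D
  have := Fintype.ofFinite ↥(GF F G)
  obtain ⟨f⟩ := nonempty_fr D
  have hf := hA f s.qs
  obtain ⟨a, h1, h2, h3⟩ := hc
  have h4 : ∀ {ξ : ℂˣ} {r i : ℕ} {x y : ℤ}, IsPrimitiveRoot ξ r → ¬ (r : ℤ) ∣ x * i →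
      ¬ RO D (coch (v2 n x y ᵥ* P.P) ξ) i := fun hξ h5 h6 => h5 ((hξ.zpow_eq_one_iff_dvd _).1 (by
    have h7 := h6 a h1
    rwa [chr_coch', ← dotProduct_mulVec, v2_dot, h2, h3, mul_one, mul_zero, add_zero, ← zpow_natCast,
      ← _root_.zpow_mul] at h7))
  obtain ⟨ξa, ha⟩ := exists_root 5 (by decide)
  obtain ⟨ξb, hb⟩ := exists_root 4 (by decide)
  obtain ⟨ξc, hc⟩ := exists_root 2 (by decide)
  obtain ⟨wa, a1, a2, a3⟩ := lab_co f s hM adm hr ha (prod_tt hn) (fun h => at_last hn h _ _ _ _) fixA eqA sepA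
  obtain ⟨wb, b1, b2, b3⟩ := lab_co f s hM adm hr hb (t := 1) (fun _ => Finset.prod_const_one)
    (fun h => at_last hn h _ _ _ _) fixB eqB sepB
  obtain ⟨wc, c1, c2, c3⟩ := lab_co f s hM adm hr hc (π := 1) (t := 1) (fun _ => Finset.prod_const_one)
    (fun h => ⟨rfl, (at_last hn h _ _ _ _).2⟩) (fun _ => (one_mul _).symm) eqC fun j j' σ h _ => sepC j j' σ h
  exact tri_of hf hp (hT.elim (cenT_of_top hf) (cenT_of_prim hf)) a1 a2 (a3.two a1.fx) (h4 ha (by decide)) b1 b2 b3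
    (ro_coch hb.pow_eq_one _) (h4 hb (by decide)) c1 c2 c3 (ro_coch hc.pow_eq_one _) (h4 hc (by decide))

end Cfsg.Agent.KZ.Ch3B
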